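import Mathlib

/-!
# A four-group Sylow subgroup: the arithmetic
-/

set_option autoImplicit false

namespace Cfsg.Agent.Lib.CyclicOddSylow16.Four

theorem no_square {d n k : ℤ} (h : d * d = n) (h1 : k * k < n) (h2 : n < (k + 1) * (k + 1))
    (_hk : 0 ≤ k) : False := by
  rcases le_or_gt 0 d with hd | hd
  · rcases le_or_gt d k with h3 | h3
    · nlinarith
    · nlinarith
  · rcases le_or_gt (-d) k with h3 | h3
    · nlinarith
    · nlinarith

/-- The order of the group from the degree relations. -/
theorem order_eq {a b r u w g : ℤ} (hr : r ≠ 0) (hr1 : r + 1 ≠ 0) (hw : w ≠ 0)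
    (h1 : 1 + a + b + r = 0) (h2 : a * b * r + b * r + a * r + 9 * (a * b) = 0)
    (h3 : g * ((a + 1) * (b + 1) * (r + 1)) * (4 * w) ^ 2 = 8 * (a * b * r) * (4 * (u * w)) ^ 3) :
    g = -4 * r * u ^ 3 * w := by
  have hab : a * b * (r + 9) = r * (1 + r) := by linear_combination h2 - r * h1
  have hd : (a + 1) * (b + 1) * (r + 9) = -8 * r := by linear_combination hab + (r + 9) * h1
  have hne : 128 * r * (r + 1) * w ^ 2 ≠ 0 :=
    mul_ne_zero (mul_ne_zero (mul_ne_zero (by norm_num) hr) hr1) (pow_ne_zero 2 hw)
  apply mul_left_cancel₀ hne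
  linear_combination (-(r + 9)) * h3 + g * (r + 1) * (4 * w) ^ 2 * hd
    - 8 * r * (4 * (u * w)) ^ 3 * hab

/-- The final diophantine contradiction. -/
theorem no_roots {a b x : ℤ} (hx : 3 < x) (h3 : 3 ∣ x) (h2 : ¬ 2 ∣ x) (hs : a + b = x - 1)
    (hp : a * b * (9 - x) = x * (x - 1)) : False := by
  obtain ⟨k, rfl⟩ : ∃ k, x = 6 * k + 3 := ⟨x / 6, by omega⟩
  have h72 : (6 - 6 * k) ∣ (72 : ℤ) := ⟨a * b + (6 * k + 3) + 8, by linear_combination -hp⟩
  have hk13 : k ≤ 13 := by
    by_contra hc
    have := Int.le_of_dvd (by norm_num) (neg_dvd.2 h72)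
    omega
  have hk1 : 1 ≤ k := by omega
  have hd : (a - b) * (a - b) = (a + b) * (a + b) - 4 * (a * b) := by ring
  obtain ⟨P, hP⟩ : ∃ P, P = a * b := ⟨_, rfl⟩
  rw [hs, ← hP] at hd
  rw [← hP] at hp
  clear h72
  interval_cases k
  · omega
  · have : P = -35 := by omega
    subst this; exact no_square hd (k := 18) (by norm_num) (by norm_num) (by norm_num)
  · have : P = -35 := by omega
    subst this; exact no_square hd (k := 23) (by norm_num) (by norm_num) (by norm_num)
  · have : P = -39 := by omega
    subst this; exact no_square hd (k := 28) (by norm_num) (by norm_num) (by norm_num)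
  · have : P = -44 := by omega
    subst this; exact no_square hd (k := 34) (by norm_num) (by norm_num) (by norm_num)
  · omega
  · have : P = -55 := by omega
    subst this; exact no_square hd (k := 46) (by norm_num) (by norm_num) (by norm_num)
  all_goals first
    | omega
    | (have : P = -90 := by omega
       subst this; exact no_square hd (k := 82) (by norm_num) (by norm_num) (by norm_num))

end Cfsg.Agent.Lib.CyclicOddSylow16.Four
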